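import Groth.Agent.ExtShX.SmDualAll
import Groth.Agent.QCoh.AnnIdeal
import Groth.Prelude.Def_FlatCA
import Mathlib.RingTheory.LocalRing.Module
import Mathlib.RingTheory.Ideal.GoingUp

/-! Dimension of supports inside the fibres of a smooth algebra. -/

universe u

set_option autoImplicit false
set_option backward.isDefEq.respectTransparency false
set_option backward.isDefEq.respectTransparency.types false
attribute [-instance] CategoryTheory.catToReflQuiver

open TensorProduct AlgebraicGeometry CategoryTheory

namespace Groth.Agent.FlatDevDim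

theorem ringKrullDim_of_smoothRelDim (k B : Type u) [Field k] [CommRing B] [Algebra k B] [Nontrivial B]
    (n : ℕ) [SmoothOfRelativeDimension n (Spec.map (CommRingCat.ofHom (algebraMap k B)))] :
    ringKrullDim B = n := by
  letI : (Spec (CommRingCat.of B)).Over (Spec (CommRingCat.of k)) :=
    ⟨Spec.map (CommRingCat.ofHom (algebraMap k B))⟩
  haveI : SmoothOfRelativeDimension n (Spec (CommRingCat.of B) ↘ Spec (CommRingCat.of k)) :=
    inferInstanceAs (SmoothOfRelativeDimension n (Spec.map (CommRingCat.ofHom (algebraMap k B))))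
  haveI : Nonempty ↥(Spec (CommRingCat.of B)) := inferInstanceAs (Nonempty (PrimeSpectrum B))
  rw [← PrimeSpectrum.topologicalKrullDim_eq_ringKrullDim B]
  exact Groth.Agent.ExtShX.SmDual.dim_eq (k := k) (r := n) (X := Spec (CommRingCat.of B))

attribute [local instance] Algebra.TensorProduct.rightAlgebra in
theorem ringKrullDim_fiber (R D : Type u) [CommRing R] [CommRing D] [Algebra R D] (p : Ideal R)
    [p.IsPrime] (n : ℕ) (h : FlatCA.SmoothRelDim n R D) [Nontrivial (p.Fiber D)] :
    ringKrullDim (p.Fiber D) = n := by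
  haveI : SmoothOfRelativeDimension n
      (Spec.map (CommRingCat.ofHom (algebraMap p.ResidueField (p.Fiber D)))) := by
    haveI := smoothOfRelativeDimension_isStableUnderBaseChange (n := n)
    have hp := isPullback_SpecMap_of_isPushout _ _ _ _
      (CommRingCat.isPushout_iff_isPushout.mpr
        (inferInstance : Algebra.IsPushout R D p.ResidueField (p.Fiber D)))
    exact MorphismProperty.of_isPullback (P := @SmoothOfRelativeDimension n) hp h
  exact ringKrullDim_of_smoothRelDim p.ResidueField (p.Fiber D) n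

theorem krullDim_lt_of_avoid_bot {α β : Type*} [Preorder α] [PartialOrder β] (b : β) (hb : ∀ x, b ≤ x)
    (f : α → β) (hf : StrictMono f) (hne : ∀ a, f a ≠ b) (n : ℕ) (hn : Order.krullDim β = n) :
    Order.krullDim α < n := by
  rcases isEmpty_or_nonempty α with h | h
  · rw [Order.krullDim_eq_bot]
    exact WithBot.bot_lt_coe _
  have key : ∀ l : LTSeries α, l.length + 1 ≤ n := by
    intro l
    let l' := l.map f hf
    have hlt : b < l'.head := lt_of_le_of_ne (hb _) (by
      rw [LTSeries.head_map]
      exact (hne _).symm)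
    have := Order.LTSeries.length_le_krullDim (l'.cons b hlt)
    rw [hn] at this
    have e : (l'.cons b hlt).length = l.length + 1 := by simp [l']
    rw [e] at this
    exact_mod_cast this
  obtain ⟨m, rfl⟩ : ∃ m, n = m + 1 := ⟨n - 1, by
    have := key (RelSeries.singleton _ h.some); omega⟩
  refine lt_of_le_of_lt (iSup_le fun l => ?_) (b := ((m : ℕ) : WithBot ℕ∞)) ?_
  · have := key l
    exact_mod_cast (by omega : l.length ≤ m)
  · exact_mod_cast Nat.lt_succ_self m

theorem mem_support_of_mem_fiber {R S N : Type u} [CommRing R] [CommRing S] [Algebra R S]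
    [AddCommGroup N] [Module S N] [Module R N] [IsScalarTower R S N] [Module.Finite S N]
    (p : Ideal R) [p.IsPrime] (x : PrimeSpectrum (p.Fiber S))
    (hx : x ∈ Module.support (p.Fiber S) (FlatCA.fiberMod p S N)) :
    ((PrimeSpectrum.primesOverOrderIsoFiber R S p).symm x).1 ≠ ⊤ ∧
      Module.annihilator S N ≤ ((PrimeSpectrum.primesOverOrderIsoFiber R S p).symm x).1 := by
  letI : Algebra S (p.Fiber S) := Algebra.TensorProduct.rightAlgebra
  haveI : IsScalarTower S (p.Fiber S) (FlatCA.fiberMod p S N) :=
    inferInstanceAs (IsScalarTower S (p.Fiber S) ((p.Fiber S) ⊗[S] N))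
  have h := (Groth.Agent.QCoh.mem_support_baseChange (l := FlatCA.toFiberMod p S N)
    (TensorProduct.isBaseChange S N (p.Fiber S)) x).1 hx
  refine ⟨((PrimeSpectrum.primesOverOrderIsoFiber R S p).symm x).2.1.ne_top, ?_⟩
  exact (Module.annihilator_le_of_mem_support h)

/-- A finite module with support avoiding the generic point of the fibre has smaller fibre dimension. -/
theorem supportDim_fiber_lt {R D : Type u} [CommRing R] [CommRing D] [Algebra R D] (p : Ideal R)
    [p.IsPrime] (n : ℕ) (hn : ringKrullDim (p.Fiber D) = n) [(p.map (algebraMap R D)).IsPrime]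
    [(p.map (algebraMap R D)).LiesOver p]
    {S N : Type u} [CommRing S] [Algebra R S] [AddCommGroup N] [Module S N] [Module R N]
    [IsScalarTower R S N] [Module.Finite S N]
    (φ : ∀ q : Ideal S, q.IsPrime → Module.annihilator S N ≤ q → Ideal D)
    (hφ : ∀ q hq ha, (φ q hq ha).IsPrime)
    (hover : ∀ q hq ha, (φ q hq ha).comap (algebraMap R D) = q.comap (algebraMap R S))
    (hmono : ∀ q₁ h₁ a₁ q₂ h₂ a₂, q₁ < q₂ → φ q₁ h₁ a₁ < φ q₂ h₂ a₂)
    (hne : ∀ q hq ha, φ q hq ha ≠ p.map (algebraMap R D)) :
    Module.supportDim (p.Fiber S) (FlatCA.fiberMod p S N) < n := by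
  let P : p.primesOver D := ⟨p.map (algebraMap R D), inferInstance, inferInstance⟩
  have hP : ∀ y : p.primesOver D, P ≤ y := fun y =>
    Ideal.map_le_iff_le_comap.2 (le_of_eq y.2.2.over)
  let eD := PrimeSpectrum.primesOverOrderIsoFiber R D p
  let eS := PrimeSpectrum.primesOverOrderIsoFiber R S p
  let f : Module.support (p.Fiber S) (FlatCA.fiberMod p S N) → p.primesOver D := fun x =>
    ⟨φ (eS.symm x.1).1 (eS.symm x.1).2.1 (mem_support_of_mem_fiber p x.1 x.2).2, hφ _ _ _,
      ⟨((hover _ _ _).trans (eS.symm x.1).2.2.over.symm).symm⟩⟩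
  refine krullDim_lt_of_avoid_bot P hP f (fun a b hab => ?_) (fun a h => hne _ _ _ congr($(h).1)) n ?_
  · exact hmono _ _ _ _ _ _ (eS.symm.strictMono hab)
  · rw [Order.krullDim_eq_of_orderIso eD]
    exact hn

theorem exists_bijective_baseChange {D G : Type u} [CommRing D] [AddCommGroup G] [Module D G]
    [Module.Finite D G] (P : Ideal D) [P.IsPrime]
    (hP : ⟨P, inferInstance⟩ ∈ Module.support D G) :
    ∃ (r : ℕ) (α : (Fin r → D) →ₗ[D] G), 0 < r ∧ Function.Bijective (α.baseChange P.ResidueField) := by
  let K := P.ResidueField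
  haveI : Nontrivial (K ⊗[D] G) :=
    (Module.mem_support_iff_nontrivial_residueField_tensorProduct
      (⟨P, inferInstance⟩ : PrimeSpectrum D)).1 hP
  obtain ⟨s, hs⟩ := (Module.Finite.fg_top (R := D) (M := G))
  have hspan : Submodule.span K (Set.range fun g : s => (1 : K) ⊗ₜ[D] (g : G)) = ⊤ := by
    rw [eq_top_iff, ← Submodule.baseChange_top (A := K) (R := D) (M := G), ← hs, Submodule.baseChange_span]
    refine Submodule.span_mono ?_
    rintro _ ⟨g, hg, rfl⟩
    exact ⟨⟨g, hg⟩, rfl⟩
  obtain ⟨t, ht, hts, hind⟩ := exists_linearIndependent K (Set.range fun g : s => (1 : K) ⊗ₜ[D] (g : G))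
  haveI : Finite t := Set.Finite.to_subtype ((Set.finite_range _).subset ht)
  haveI : Fintype t := Fintype.ofFinite t
  let b : Module.Basis t K (K ⊗[D] G) :=
    Module.Basis.mk hind (by rw [Subtype.range_coe_subtype, Set.setOf_mem_eq, hts, hspan])
  let r := Fintype.card t
  let b' : Module.Basis (Fin r) K (K ⊗[D] G) := b.reindex (Fintype.equivFin t)
  have hlift : ∀ i, ∃ g : G, (1 : K) ⊗ₜ[D] g = b' i := fun i => by
    obtain ⟨g, hg⟩ := ht ((Fintype.equivFin t).symm i).2
    exact ⟨g.1, by simpa [b', b] using hg⟩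
  choose g hg using hlift
  refine ⟨r, (Pi.basisFun D (Fin r)).constr D g, ?_, ?_⟩
  · haveI : Nonempty (Fin r) := b'.index_nonempty
    exact Fin.pos_iff_nonempty.2 inferInstance
  · let B := (Pi.basisFun D (Fin r)).baseChange K
    have : LinearMap.baseChange K ((Pi.basisFun D (Fin r)).constr D g) =
        (B.equiv b' (Equiv.refl _)).toLinearMap := B.ext fun i => by
      rw [LinearEquiv.coe_coe, Module.Basis.equiv_apply, Equiv.refl_apply]
      simp only [B, Module.Basis.baseChange_apply, LinearMap.baseChange_tmul, Module.Basis.constr_basis, hg]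
    rw [this]
    exact (B.equiv b' (Equiv.refl _)).bijective

theorem notMem_support_coker {D G : Type u} [CommRing D] [AddCommGroup G] [Module D G]
    [Module.Finite D G] (P : Ideal D) [P.IsPrime] {r : ℕ} (α : (Fin r → D) →ₗ[D] G)
    (hα : Function.Surjective (α.baseChange P.ResidueField)) :
    ⟨P, inferInstance⟩ ∉ Module.support D (G ⧸ LinearMap.range α) := by
  rw [Module.mem_support_iff_nontrivial_residueField_tensorProduct, not_nontrivial_iff_subsingleton]
  refine subsingleton_of_forall_eq 0 fun z => ?_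
  obtain ⟨w, rfl⟩ := LinearMap.lTensor_surjective P.ResidueField
    (Submodule.mkQ_surjective (LinearMap.range α)) z
  obtain ⟨v, rfl⟩ := hα w
  show ((LinearMap.range α).mkQ.lTensor P.ResidueField) ((α.lTensor P.ResidueField) v) = 0
  rw [← LinearMap.comp_apply, ← LinearMap.lTensor_comp, LinearMap.range_mkQ_comp, LinearMap.lTensor_zero,
    LinearMap.zero_apply]

end Groth.Agent.FlatDevDim
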